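import Mathlib
import Groth.Agent.ProjLib.SpecValuation

/-! The refined valuative criterion: it suffices to test valuation rings of residue fields of a
scheme with dense image. -/

set_option autoImplicit false

namespace Groth.Agent.ValCritLib

open AlgebraicGeometry CategoryTheory CategoryTheory.Limits IsLocalRing

universe u

/-- The image of a quasi-compact scheme in a quasi-separated one: every point of the closure is a
specialization of a point of the image. -/
theorem exists_specializes_of_mem_closure {Y Z : Scheme.{u}} (h : Z ⟶ Y) [QuasiCompact h] (y : Y)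
    (hy : y ∈ closure (Set.range h)) : ∃ z, h z ⤳ y := by
  obtain ⟨U, hU, hyU, -⟩ := exists_isAffineOpen_mem_and_subset (X := Y) (x := y) (U := ⊤) trivial
  have : IsAffine (U : Scheme) := hU
  have : CompactSpace ((h ⁻¹ᵁ U : Z.Opens) : Scheme) :=
    QuasiCompact.compactSpace_of_compactSpace (h ∣_ U)
  obtain ⟨R, g, hg⟩ := compactSpace_iff_exists.mp this
  obtain ⟨φ, hφ⟩ : ∃ φ : Γ(Y, U) ⟶ R,
      Spec.map φ ≫ hU.fromSpec = g ≫ (h ⁻¹ᵁ U).ι ≫ h := by
    have hr : Set.range (g ≫ (h ⁻¹ᵁ U).ι ≫ h) ⊆ Set.range hU.fromSpec := by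
      rw [hU.range_fromSpec]
      rintro _ ⟨a, rfl⟩
      exact (g a).2
    exact ⟨Spec.preimage (IsOpenImmersion.lift hU.fromSpec _ hr), by
      rw [Spec.map_preimage, IsOpenImmersion.lift_fac]⟩
  obtain ⟨p, hp⟩ : y ∈ Set.range hU.fromSpec := by rwa [hU.range_fromSpec]
  have hpc : p ∈ closure (Set.range (Spec.map φ)) := by
    rw [mem_closure_iff]
    intro W hW hpW
    obtain ⟨_, hyW, z, rfl⟩ := mem_closure_iff.mp hy _
      (hU.fromSpec.isOpenEmbedding.isOpenMap W hW) ⟨p, hpW, hp⟩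
    obtain ⟨w, hwW, hw⟩ := hyW
    have hzU : z ∈ h ⁻¹ᵁ U := by
      show h z ∈ (U : Set Y)
      rw [← hU.range_fromSpec]
      exact ⟨w, hw⟩
    obtain ⟨a, ha⟩ := hg ⟨z, hzU⟩
    refine ⟨Spec.map φ a, ?_, a, rfl⟩
    have : hU.fromSpec (Spec.map φ a) = hU.fromSpec w := by
      rw [← Scheme.Hom.comp_apply, hφ, hw]
      show h ((h ⁻¹ᵁ U).ι (g a)) = h z
      rw [ha]
      rfl
    exact hU.fromSpec.isOpenEmbedding.injective this ▸ hwW
  replace hpc : p ∈ PrimeSpectrum.zeroLocus (RingHom.ker φ.hom : Set Γ(Y, U)) := by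
    rw [← PrimeSpectrum.closure_range_comap]
    exact hpc
  obtain ⟨q, hq, hqp⟩ := Ideal.exists_minimalPrimes_le (J := p.asIdeal) hpc
  obtain ⟨P, hP, -, hPq⟩ := Ideal.exists_comap_eq_of_mem_minimalPrimes φ.hom (I := ⊥) q hq
  refine ⟨((h ⁻¹ᵁ U).ι) (g ⟨P, hP⟩), ?_⟩
  have e : h (((h ⁻¹ᵁ U).ι) (g ⟨P, hP⟩)) = hU.fromSpec (Spec.map φ ⟨P, hP⟩) := by
    rw [← Scheme.Hom.comp_apply, ← Scheme.Hom.comp_apply, ← hφ, ← Scheme.Hom.comp_apply]
  rw [e, ← hp]
  refine Specializes.map ?_ hU.fromSpec.continuous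
  refine (PrimeSpectrum.le_iff_specializes _ p).mp ?_
  show P.comap φ.hom ≤ p.asIdeal
  rw [hPq]
  exact hqp

/-- A specialisation `g z ⤳ w` is witnessed by a valuation ring of `κ(z)`. -/
theorem exists_valuation_of_specializes {P Z : Scheme.{u}} (g : Z ⟶ P) (z : Z) (w : P)
    (hw : g z ⤳ w) :
    ∃ (V : ValuationSubring (Z.residueField z)) (ψ : Spec (CommRingCat.of V) ⟶ P),
      Spec.map (CommRingCat.ofHom V.subtype) ≫ ψ = Z.fromSpecResidueField z ≫ g ∧
      ψ (closedPoint V) = w := by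
  let α : P.presheaf.stalk w ⟶ Z.residueField z :=
    P.presheaf.stalkSpecializes hw ≫ g.stalkMap z ≫ Z.residue z
  obtain ⟨A, hA, hA_local⟩ := exists_factor_valuationRing α.hom
  let β : P.presheaf.stalk w ⟶ CommRingCat.of A :=
    CommRingCat.ofHom (α.hom.codRestrict A.toSubring hA)
  refine ⟨A, Spec.map β ≫ P.fromSpecStalk w, ?_, ?_⟩
  · rw [Scheme.fromSpecResidueField, Category.assoc, ← Scheme.SpecMap_stalkMap_fromSpecStalk,
      ← Scheme.SpecMap_stalkSpecializes_fromSpecStalk hw]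
    simp_rw [← Spec.map_comp_assoc]
    rfl
  · have : IsLocalHom β.hom := hA_local
    exact (Groth.Agent.ProjLib.closedPoint_comp β.hom (P.fromSpecStalk w)).trans
      P.fromSpecStalk_closedPoint

/-- A valuation subring extends along an extension of fields. -/
theorem exists_extension {k L : Type u} [Field k] [Field L] (g : k →+* L) (R : ValuationSubring k) :
    ∃ R' : ValuationSubring L, R'.comap g = R := by
  obtain ⟨A, hA, hloc⟩ := exists_factor_valuationRing (g.comp R.subtype)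
  refine ⟨A, le_antisymm (fun x hx ↦ ?_) fun x hx ↦ hA ⟨x, hx⟩⟩
  refine (R.mem_or_inv_mem x).elim id fun hinv ↦ ?_
  rcases eq_or_ne x 0 with rfl | hx0
  · exact zero_mem R
  have hu : IsUnit ((g.comp R.subtype).codRestrict A.toSubring hA ⟨x⁻¹, hinv⟩) :=
    IsUnit.of_mul_eq_one ⟨g x, hx⟩ (Subtype.ext (by
      show g x⁻¹ * g x = 1
      rw [← map_mul, inv_mul_cancel₀ hx0, map_one]))
  obtain ⟨w, hw⟩ := (hloc.map_nonunit _ hu).exists_left_inv
  have hw' : (w : k) * x⁻¹ = 1 := congrArg Subtype.val hw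
  have hwx : (w : k) = x := by rw [eq_inv_of_mul_eq_one_left hw', inv_inv]
  exact hwx ▸ w.2

/-- The composite of a valuation subring with one of its residue field. -/
noncomputable def composite {K : Type u} [Field K] (V : ValuationSubring K)
    (Rt : ValuationSubring (ResidueField V)) : ValuationSubring K :=
  ValuationSubring.ofSubring ((Rt.toSubring.comap (residue V)).map V.subtype) fun x ↦ by
    rcases eq_or_ne x 0 with rfl | hx0
    · exact Or.inl (zero_mem _)
    rcases V.mem_or_inv_mem x with hx | hx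
    · rcases Rt.mem_or_inv_mem (residue V ⟨x, hx⟩) with h | h
      · exact Or.inl ⟨⟨x, hx⟩, h, rfl⟩
      · by_cases h0 : residue V ⟨x, hx⟩ = 0
        · exact Or.inl ⟨⟨x, hx⟩, (by rw [h0]; exact zero_mem Rt : residue V ⟨x, hx⟩ ∈ Rt), rfl⟩
        · obtain ⟨w, hw⟩ := ((residue_ne_zero_iff_isUnit _).mp h0).exists_right_inv
          have hw' : x * (w : K) = 1 := congrArg Subtype.val hw
          refine Or.inr ⟨w, ?_, (inv_eq_of_mul_eq_one_right hw').symm⟩
          show residue V w ∈ Rt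
          have : (residue V ⟨x, hx⟩)⁻¹ = residue V w :=
            inv_eq_of_mul_eq_one_right (by rw [← map_mul, hw, map_one])
          rwa [← this]
    · rcases Rt.mem_or_inv_mem (residue V ⟨x⁻¹, hx⟩) with h | h
      · exact Or.inr ⟨⟨x⁻¹, hx⟩, h, rfl⟩
      · by_cases h0 : residue V ⟨x⁻¹, hx⟩ = 0
        · exact Or.inr ⟨⟨x⁻¹, hx⟩, (by rw [h0]; exact zero_mem Rt : residue V ⟨x⁻¹, hx⟩ ∈ Rt), rfl⟩
        · obtain ⟨w, hw⟩ := ((residue_ne_zero_iff_isUnit _).mp h0).exists_right_inv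
          have hw' : x⁻¹ * (w : K) = 1 := congrArg Subtype.val hw
          refine Or.inl ⟨w, ?_, by
            show (w : K) = x
            rw [← inv_eq_of_mul_eq_one_right hw', inv_inv]⟩
          show residue V w ∈ Rt
          have : (residue V ⟨x⁻¹, hx⟩)⁻¹ = residue V w :=
            inv_eq_of_mul_eq_one_right (by rw [← map_mul, hw, map_one])
          rwa [← this]

theorem mem_composite {K : Type u} [Field K] {V : ValuationSubring K}
    {Rt : ValuationSubring (ResidueField V)} {x : K} :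
    x ∈ composite V Rt ↔ ∃ v : V, residue V v ∈ Rt ∧ (v : K) = x :=
  ⟨fun ⟨v, h, e⟩ ↦ ⟨v, h, e⟩, fun ⟨v, h, e⟩ ↦ ⟨v, h, e⟩⟩

variable {X Y Z : Scheme.{u}} (h : Z ⟶ Y) (f : Y ⟶ X)

/-- The uniqueness hypothesis of the refined criterion. -/
def RefinedUniqueness : Prop :=
  ∀ (z : Z) (R : ValuationSubring (Z.residueField z)) (φ₁ φ₂ : Spec (CommRingCat.of R) ⟶ Y),
    Spec.map (CommRingCat.ofHom R.subtype) ≫ φ₁ = Z.fromSpecResidueField z ≫ h →
    Spec.map (CommRingCat.ofHom R.subtype) ≫ φ₂ = Z.fromSpecResidueField z ≫ h →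
    φ₁ ≫ f = φ₂ ≫ f → φ₁ = φ₂

theorem isSeparated_of_refined [QuasiSeparated f] [QuasiCompact h] (hd : DenseRange h)
    (H : RefinedUniqueness h f) : IsSeparated f where
  isClosedImmersion_diagonal := by
    refine .of_isPreimmersion _ ?_
    suffices hs : SpecializingMap (pullback.diagonal f) from
      ((isClosedMap_iff_specializingMap (pullback.diagonal f)).mpr hs).isClosed_range
    intro y w hyw
    obtain ⟨z, hz⟩ := exists_specializes_of_mem_closure h y (hd y)
    obtain ⟨V, ψ, hgen, hcl⟩ := exists_valuation_of_specializes (h ≫ pullback.diagonal f) z w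
      ((hz.map (pullback.diagonal f).continuous).trans hyw)
    have e := H z V (ψ ≫ pullback.fst f f) (ψ ≫ pullback.snd f f)
      (by rw [reassoc_of% hgen, pullback.diagonal_fst, Category.comp_id])
      (by rw [reassoc_of% hgen, pullback.diagonal_snd, Category.comp_id])
      (by rw [Category.assoc, Category.assoc, pullback.condition])
    have hψ : (ψ ≫ pullback.fst f f) ≫ pullback.diagonal f = ψ := by
      apply pullback.hom_ext
      · simp
      · rw [Category.assoc, pullback.diagonal_snd, Category.comp_id, e]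
    refine ⟨(ψ ≫ pullback.fst f f) (closedPoint V), ?_, ?_⟩
    · refine (pullback.diagonal f).isEmbedding.isInducing.specializes_iff.mp ?_
      rw [← Scheme.Hom.comp_apply (ψ ≫ pullback.fst f f) (pullback.diagonal f), hψ, hcl]
      exact hyw
    · rw [← Scheme.Hom.comp_apply (ψ ≫ pullback.fst f f) (pullback.diagonal f), hψ, hcl]

theorem refined_of_isSeparated [IsSeparated f] : RefinedUniqueness h f := by
  intro z R φ₁ φ₂ h₁ h₂ hf
  let S : ValuativeCommSq f :=
    { R := R, K := Z.residueField z, i₁ := Z.fromSpecResidueField z ≫ h, i₂ := φ₁ ≫ f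
      commSq := ⟨by rw [← h₁, Category.assoc]; rfl⟩ }
  have := (IsSeparated.valuativeCriterion f S)
  have key := this.elim ⟨φ₁, h₁, rfl⟩ ⟨φ₂, h₂, hf.symm⟩
  exact congrArg CommSq.LiftStruct.l key

/-- The existence hypothesis of the refined criterion. -/
def RefinedExistence : Prop :=
  ∀ (z : Z) (R : ValuationSubring (Z.residueField z)) (φ : Spec (CommRingCat.of R) ⟶ X),
    Spec.map (CommRingCat.ofHom R.subtype) ≫ φ = Z.fromSpecResidueField z ≫ h ≫ f →
    ∃ φ' : Spec (CommRingCat.of R) ⟶ Y,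
      Spec.map (CommRingCat.ofHom R.subtype) ≫ φ' = Z.fromSpecResidueField z ≫ h ∧ φ' ≫ f = φ

/-- The residue field map of a field valued point. -/
theorem exists_residue_factor {K : Type u} [Field K] (i : Spec (CommRingCat.of K) ⟶ Y) (y : Y)
    (hy : i (closedPoint K) = y) :
    ∃ g : Y.residueField y ⟶ CommRingCat.of K, Spec.map g ≫ Y.fromSpecResidueField y = i := by
  subst hy
  exact ⟨_, Scheme.descResidueField_stalkClosedPointTo_fromSpecResidueField K Y i⟩

/-- Existence of lifts over valuation rings of residue fields of `Y`. -/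
theorem exists_lift_residueField [QuasiCompact h] (hd : DenseRange h) (H : RefinedExistence h f)
    (Hu : RefinedUniqueness h f) (y : Y) (R : ValuationSubring (Y.residueField y))
    (φ : Spec (CommRingCat.of R) ⟶ X)
    (w : Spec.map (CommRingCat.ofHom R.subtype) ≫ φ = Y.fromSpecResidueField y ≫ f) :
    ∃ L : Spec (CommRingCat.of R) ⟶ Y,
      Spec.map (CommRingCat.ofHom R.subtype) ≫ L = Y.fromSpecResidueField y ∧ L ≫ f = φ := by
  obtain ⟨z, hz⟩ := exists_specializes_of_mem_closure h y (hd y)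
  obtain ⟨V₁, ψ, hgen, hcl⟩ := exists_valuation_of_specializes h z y hz
  let i' : Spec (CommRingCat.of (ResidueField V₁)) ⟶ Y :=
    Spec.map (CommRingCat.ofHom (residue V₁)) ≫ ψ
  obtain ⟨g, hg⟩ := exists_residue_factor i' y
    ((Groth.Agent.ProjLib.closedPoint_comp (residue V₁) ψ).trans hcl)
  obtain ⟨R₁, hR₁⟩ := exists_extension g.hom R
  subst hR₁
  let ρ : R₁.comap g.hom →+* R₁ := (g.hom.comp (R₁.comap g.hom).subtype).codRestrict R₁.toSubring
    fun x ↦ x.2
  let W := composite V₁ R₁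
  have hWV : W ≤ V₁ := fun x hx ↦ by
    obtain ⟨v, -, rfl⟩ := mem_composite.mp hx
    exact v.2
  let ι : W →+* V₁ := W.inclusion V₁ hWV
  have hmem : ∀ x : W, residue V₁ (ι x) ∈ R₁ := fun x ↦ by
    obtain ⟨v, hv, e⟩ := mem_composite.mp x.2
    rwa [show ι x = v from Subtype.ext e.symm]
  let σ : W →+* R₁ := ((residue V₁).comp ι).codRestrict R₁.toSubring hmem
  have hσs : Function.Surjective σ := fun r ↦ by
    obtain ⟨v, hv⟩ := residue_surjective (R := V₁) (r : ResidueField V₁)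
    refine ⟨⟨v, mem_composite.mpr ⟨v, hv ▸ r.2, rfl⟩⟩, Subtype.ext ?_⟩
    exact hv
  have hσloc : IsLocalHom σ := IsLocalHom.of_surjective σ hσs
  obtain ⟨φW, ⟨hW1, -, hW2, hW3⟩, -⟩ :=
    Groth.Agent.ProjLib.existsUnique_lift_glue (terminal.from X) _ W V₁ hWV ι (fun _ ↦ rfl)
      (Z.fromSpecResidueField z ≫ h ≫ f) (terminal.from _) (terminal.hom_ext _ _) (ψ ≫ f)
      (by rw [reassoc_of% hgen]) R₁ σ hσs (fun _ ↦ rfl) (Spec.map (CommRingCat.ofHom ρ) ≫ φ)
      (by
        have hgy := congrArg (· ≫ f) hg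
        simp only [Category.assoc, i'] at hgy
        rw [← hgy, ← w, ← Spec.map_comp_assoc, ← Spec.map_comp_assoc]
        rfl)
      (terminal.hom_ext _ _)
  obtain ⟨L, hL1, hL2⟩ := H z W φW hW1
  have hιL : Spec.map (CommRingCat.ofHom ι) ≫ L = ψ := by
    refine Hu z V₁ _ _ ?_ hgen (by rw [Category.assoc, hL2, hW2])
    rw [← hL1, ← Spec.map_comp_assoc]
    rfl
  have hgenσ : Spec.map (CommRingCat.ofHom R₁.subtype) ≫ Spec.map (CommRingCat.ofHom σ) ≫ L = i' := by
    simp only [i', ← hιL, ← Spec.map_comp_assoc]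
    rfl
  obtain ⟨L', ⟨hL'ρ, hL'gen⟩, -⟩ := Groth.Agent.ProjLib.existsUnique_factor_comap (𝟙 Y)
    (ResidueField V₁) R₁ i' (Spec.map (CommRingCat.ofHom σ) ≫ L)
    (by rw [hgenσ, Category.comp_id]) y g hg ρ (fun _ ↦ rfl)
  rw [Category.comp_id] at hL'gen
  refine ⟨L', hL'gen, ?_⟩
  have hρloc : IsLocalHom ρ := ⟨fun x hx ↦ by
    obtain ⟨r, hr⟩ := hx.exists_left_inv
    have hr' : (r : ResidueField V₁) * g.hom (x : Y.residueField y) = 1 := congrArg Subtype.val hr
    have hmem' : (x : Y.residueField y)⁻¹ ∈ R₁.comap g.hom := by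
      rw [ValuationSubring.mem_comap, map_inv₀, ← eq_inv_of_mul_eq_one_left hr']
      exact r.2
    refine IsUnit.of_mul_eq_one ⟨_, hmem'⟩ (Subtype.ext (mul_inv_cancel₀ fun h0 ↦ ?_))
    rw [h0, map_zero, mul_zero] at hr'
    exact zero_ne_one hr'⟩
  refine Groth.Agent.ProjLib.ext_of_closedPoint (R₁.comap g.hom).subtype Subtype.coe_injective _ _
    (by rw [reassoc_of% hL'gen, w]) ?_
  rw [← Groth.Agent.ProjLib.closedPoint_comp ρ (L' ≫ f), ← Category.assoc, hL'ρ, Category.assoc,
    hL2, hW3, Groth.Agent.ProjLib.closedPoint_comp ρ φ]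

theorem existence_of_refined [QuasiCompact h] (hd : DenseRange h) (H : RefinedExistence h f)
    (Hu : RefinedUniqueness h f) : ValuativeCriterion.Existence f := by
  intro S
  let A : ValuationSubring S.K := ValuationSubring.ofSubring (algebraMap S.R S.K).range fun x ↦
    (ValuationRing.isInteger_or_isInteger S.R x).imp (fun hx ↦ hx) (fun hx ↦ hx)
  let e : S.R ≃+* A :=
    RingEquiv.ofBijective (algebraMap S.R S.K).rangeRestrict
      ⟨fun a b hab ↦ IsFractionRing.injective S.R S.K (congrArg Subtype.val hab),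
        (algebraMap S.R S.K).rangeRestrict_surjective⟩
  have hw : Spec.map (CommRingCat.ofHom A.subtype) ≫
      Spec.map (CommRingCat.ofHom e.toRingHom) ≫ S.i₂ = S.i₁ ≫ f := by
    rw [S.commSq.w, ← Spec.map_comp_assoc]
    rfl
  obtain ⟨g, hg⟩ := exists_residue_factor S.i₁ _ rfl
  let ρ : A.comap g.hom →+* A := (g.hom.comp (A.comap g.hom).subtype).codRestrict A.toSubring
    fun x ↦ x.2
  obtain ⟨φ', ⟨hφ'ρ, hφ'gen⟩, -⟩ := Groth.Agent.ProjLib.existsUnique_factor_comap f S.K A S.i₁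
    (Spec.map (CommRingCat.ofHom e.toRingHom) ≫ S.i₂) hw _ g hg ρ (fun _ ↦ rfl)
  obtain ⟨L, hL1, hL2⟩ := exists_lift_residueField h f hd H Hu _ _ φ' hφ'gen
  refine ⟨⟨⟨Spec.map (CommRingCat.ofHom e.symm.toRingHom) ≫ Spec.map (CommRingCat.ofHom ρ) ≫ L,
    ?_, ?_⟩⟩⟩
  · have hA' : Spec.map (CommRingCat.ofHom (algebraMap S.R S.K)) ≫
        Spec.map (CommRingCat.ofHom e.symm.toRingHom) = Spec.map (CommRingCat.ofHom A.subtype) := by
      rw [← Spec.map_comp]
      congr 1
      ext a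
      exact congrArg Subtype.val (e.apply_symm_apply a)
    calc Spec.map (CommRingCat.ofHom (algebraMap S.R S.K)) ≫
          Spec.map (CommRingCat.ofHom e.symm.toRingHom) ≫ Spec.map (CommRingCat.ofHom ρ) ≫ L
        = Spec.map (CommRingCat.ofHom A.subtype) ≫ Spec.map (CommRingCat.ofHom ρ) ≫ L := by
          rw [← Category.assoc, hA']
      _ = Spec.map g ≫ Spec.map (CommRingCat.ofHom (A.comap g.hom).subtype) ≫ L := by
          rw [← Spec.map_comp_assoc, ← Spec.map_comp_assoc]; rfl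
      _ = S.i₁ := (congrArg (Spec.map g ≫ ·) hL1).trans hg
  · rw [Category.assoc, Category.assoc, hL2, hφ'ρ, ← Spec.map_comp_assoc]
    have : CommRingCat.ofHom e.toRingHom ≫ CommRingCat.ofHom e.symm.toRingHom = 𝟙 _ := by
      ext a; exact e.symm_apply_apply a
    rw [this, Spec.map_id, Category.id_comp]

end Groth.Agent.ValCritLib
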